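import Groth.Agent.GLinStabLib.GenBase
import Groth.Agent.GITAffLib.Geometric
import Groth.Agent.UOpenLib.Criterion
import Groth.Agent.GrpFieldLib.Uniq
import Groth.Agent.S2568

/-!
# Morphisms whose geometric fibres contain at most one orbit
-/

set_option autoImplicit false
set_option backward.isDefEq.respectTransparency false
set_option synthInstance.maxHeartbeats 400000
set_option maxHeartbeats 1000000
set_option linter.style.haveILetI false
set_option linter.unusedSectionVars false

universe u

noncomputable section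

open CategoryTheory CategoryTheory.Limits MonoidalCategory CartesianMonoidalCategory AlgebraicGeometry Topology
open scoped MonObj

namespace OneOrbitLib

open GLinStabGen (stabDim)

variable {S : Scheme.{u}} {G X Y : Over S} [GrpObj G] {a : AlgGrp.Action G X} {φ : X ⟶ Y}

/-- Every geometric fibre contains at most one orbit. -/
def OneOrbit (a : AlgGrp.Action G X) (φ : X ⟶ Y) : Prop :=
  ∀ (Ω : Type u) [Field Ω] [IsAlgClosed Ω] (T : Over S) (_ : T.left ≅ Spec (CommRingCat.of Ω))
    (x₁ x₂ : T ⟶ X), x₁ ≫ φ = x₂ ≫ φ → ∃ g : T ⟶ G, lift g x₂ ≫ a.act = x₁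

theorem psiY_surjective (hi : GIT.IsInvariant a φ) (hii : OneOrbit a φ) :
    Function.Surjective (GIT.PsiY a φ hi).base := by
  intro w
  obtain ⟨K, _, _, p, hp⟩ := Groth.Agent.GrpField.exists_geomPoint w
  let T : Over S := Over.mk (p ≫ pullback.fst φ.left φ.left ≫ X.hom)
  let x₁ : T ⟶ X := Over.homMk (p ≫ pullback.fst φ.left φ.left) (Category.assoc _ _ _)
  let x₂ : T ⟶ X := Over.homMk (p ≫ pullback.snd φ.left φ.left) (by
    show _ = p ≫ pullback.fst φ.left φ.left ≫ X.hom
    rw [← Over.w φ, pullback.condition_assoc, Category.assoc])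
  have he : x₁ ≫ φ = x₂ ≫ φ := Over.OverMorphism.ext (by
    show (p ≫ _) ≫ φ.left = (p ≫ _) ≫ φ.left
    rw [Category.assoc, Category.assoc, pullback.condition])
  obtain ⟨g, hg⟩ := hii K T (Iso.refl _) x₁ x₂ he
  refine ⟨(lift g x₂).left (IsLocalRing.closedPoint K), ?_⟩
  have h1 : (lift g x₂).left ≫ GIT.PsiY a φ hi = p := by
    apply pullback.hom_ext
    · rw [GIT.PsiY, Category.assoc, pullback.lift_fst, ← Over.comp_left, hg]; rfl
    · rw [GIT.PsiY, Category.assoc, pullback.lift_snd, ← Over.comp_left, lift_snd]; rfl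
  rw [← hp (IsLocalRing.closedPoint K)]
  exact congrArg (fun m => m (IsLocalRing.closedPoint K)) h1

variable [LocallyOfFiniteType G.hom] [QuasiCompact G.hom] [LocallyOfFiniteType X.hom] [QuasiCompact X.hom]
  [LocallyOfFiniteType φ.left]

/-- Fibre and stabiliser dimensions add up to the dimension of the group. -/
theorem dim_add (hi : GIT.IsInvariant a φ) (hii : OneOrbit a φ) (x : X.left) :
    topologicalKrullDim (G.hom.fiber (X.hom x)) =
      topologicalKrullDim (φ.left.fiber (φ.left x)) + stabDim a x := by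
  obtain ⟨K, _, _, p, hp⟩ := Groth.Agent.GrpField.exists_geomPoint x
  let T : Over S := Over.mk (p ≫ X.hom)
  let f : T ⟶ X := Over.homMk p rfl
  let z : T.left := IsLocalRing.closedPoint K
  haveI : Subsingleton T.left := inferInstanceAs (Subsingleton (PrimeSpectrum K))
  have sq := IsPullback.of_hasPullback φ (f ≫ φ)
  obtain ⟨a', he, hi'⟩ := GITQuotLib.exists_action hi sq
  let pr := pullback.fst φ (f ≫ φ)
  let φ' := pullback.snd φ (f ≫ φ)
  let s := sq.lift f (𝟙 T) (Category.id_comp _).symm
  have hs : s ≫ φ' = 𝟙 T := sq.lift_snd _ _ _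
  have hps : s ≫ pr = f := sq.lift_fst _ _ _
  let o := (G ◁ s) ≫ a'.act
  have huniv : ∀ w, w ∈ Set.range o.left := by
    intro w
    obtain ⟨L, _, _, q, hq⟩ := Groth.Agent.GrpField.exists_geomPoint w
    let T' : Over S := Over.mk (q ≫ (pullback φ (f ≫ φ)).hom)
    let Q : T' ⟶ pullback φ (f ≫ φ) := Over.homMk q rfl
    obtain ⟨g, hg⟩ := hii L T' (Iso.refl _) (Q ≫ pr) ((Q ≫ φ') ≫ f) (by
      rw [Category.assoc, Category.assoc, Category.assoc]
      exact congrArg (Q ≫ ·) sq.w)
    have h1 : lift g (Q ≫ φ') ≫ o = Q := by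
      refine sq.hom_ext ?_ ?_
      · show (_ ≫ (G ◁ s) ≫ a'.act) ≫ pr = Q ≫ pr
        rw [← hg, Category.assoc, Category.assoc, he, lift_whiskerLeft_assoc, lift_whiskerLeft_assoc,
          Category.assoc _ s, hps]
      · show (_ ≫ (G ◁ s) ≫ a'.act) ≫ φ' = Q ≫ φ'
        rw [Category.assoc, Category.assoc, show a'.act ≫ φ' = snd G _ ≫ φ' from hi', whiskerLeft_snd_assoc, hs,
          Category.comp_id, lift_snd]
    refine ⟨(lift g (Q ≫ φ')).left (IsLocalRing.closedPoint L), ?_⟩
    rw [← Scheme.Hom.comp_apply, ← Over.comp_left, h1]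
    exact hq _
  have sqs : IsPullback pr.left φ'.left φ.left (f ≫ φ).left := sq.map (Over.forget _)
  have hadd := GLinStabGen.dim_add a (p ≫ X.hom) f z
  rw [show f.left z = x from hp z] at hadd
  rw [hadd]
  congr 1
  have e : Set.range (GIT.psi a f).left = (lift pr φ').left '' Set.univ := by
    have e1 := GITAffLib.orbit_comp_lift he hi' s hs
    rw [hps] at e1
    rw [← e1, Over.comp_left, Scheme.Hom.comp_base, TopCat.coe_comp, Set.range_comp,
      Set.eq_univ_of_forall huniv]
  haveI : IsImmersion (lift pr φ').left := by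
    have e : (lift pr φ').left = sqs.isoPullback.hom ≫ pullback.mapDesc φ.left (f ≫ φ).left Y.hom ≫
        (pullback.congrHom (Over.w φ) (Over.w (f ≫ φ))).hom := by
      apply pullback.hom_ext <;> simp [pullback.mapDesc]
    rw [e]
    infer_instance
  rw [e, Set.image_univ, ← IsHomeomorph.topologicalKrullDim_eq _
    (lift pr φ').left.isEmbedding.toHomeomorph.isHomeomorph, ← GLinStabGen.dim_fiber_eq φ'.left z,
    FibDimLib.topologicalKrullDim_fiber_baseChange sqs z, show (f ≫ φ).left z = φ.left x from by
      rw [Over.comp_left, Scheme.Hom.comp_apply, show f.left z = x from hp z]]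

theorem le_of_add_nat_le_add_nat {v w : WithBot ℕ∞} (d : ℕ) (h : v + d ≤ w + d) : v ≤ w := by
  induction v using WithBot.recBotCoe with
  | bot => exact bot_le
  | coe v =>
    induction w using WithBot.recBotCoe with
    | bot =>
      rw [WithBot.bot_add, le_bot_iff] at h
      exact absurd h (by exact WithBot.coe_ne_bot (a := v + (d : ℕ∞)))
    | coe w =>
      rw [← WithBot.coe_natCast, ← WithBot.coe_add, ← WithBot.coe_add, WithBot.coe_le_coe] at h
      exact WithBot.coe_le_coe.2 ((WithTop.add_le_add_iff_right (ENat.coe_ne_top d)).1 h)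

/-- Chevalley's criterion applies: one-orbit morphisms to normal targets are universally open. -/
theorem universallyOpen [IsNoetherian S] [UniversallyOpen G.hom] [IrreducibleSpace X.left] [IrreducibleSpace Y.left]
    (hY : ∀ y : Y.left, CAlg2.IsGeomUnibranch (Y.left.presheaf.stalk y)) [IsDominant φ.left]
    (hi : GIT.IsInvariant a φ) (hii : OneOrbit a φ) : UniversallyOpen φ.left := by
  refine Groth.Agent.S2568.result hY φ.left fun x => ?_
  let ζ : X.left := genericPoint X.left
  have hη : φ.left ζ = genericPoint Y.left :=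
    ((genericPoint_spec X.left).image φ.left.continuous).eq (by
      rw [Set.image_univ, φ.left.denseRange.closure_eq]; exact genericPoint_spec Y.left)
  refine le_antisymm ?_ (hη ▸ FibDimLib.generic_fiber_dim_le φ.left x)
  refine (FibDimLib.fibreDimAt_le_fiber φ.left x).trans ?_
  obtain ⟨d, hd⟩ := GLinStabGen.exists_stabDim_eq_nat a x
  refine le_of_add_nat_le_add_nat d ?_
  rw [← hd, ← dim_add hi hii x]
  refine le_trans ?_ (add_le_add le_rfl (GLinStabGen.stabDim_le_of_specializes a (genericPoint_specializes x)))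
  rw [← dim_add hi hii ζ]
  haveI : LocallyOfFinitePresentation G.hom := UOpenLib.locallyOfFinitePresentation_of_isLocallyNoetherian G.hom
  haveI : IsLocallyNoetherian G.left := LocallyOfFiniteType.isLocallyNoetherian G.hom
  by_contra h
  rw [not_le] at h
  have hop := FibDimLib.isOpen_lt_fiber_dim G.hom (fun g => UOpenLib.isUnivOpenAt_of_universallyOpen' G.hom g)
    (topologicalKrullDim (G.hom.fiber (X.hom ζ)))
  have hmem : X.hom x ∈ {s : S | topologicalKrullDim (G.hom.fiber (X.hom ζ)) < topologicalKrullDim (G.hom.fiber s)} := h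
  exact lt_irrefl (topologicalKrullDim (G.hom.fiber (X.hom ζ)))
    (((genericPoint_specializes x).map X.hom.continuous).mem_open hop hmem)

end OneOrbitLib
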