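import Groth.Agent.OneOrbitLib.Dim
import Groth.Agent.HopfFFLib.Nilradical
import Groth.Agent.NormalLib.Serre
import Mathlib.RingTheory.DiscreteValuationRing.TFAE

/-!
# Invariant sections come from the base in characteristic zero
-/

set_option autoImplicit false
set_option backward.isDefEq.respectTransparency false
set_option synthInstance.maxHeartbeats 400000
set_option maxHeartbeats 1000000
set_option linter.style.haveILetI false
set_option linter.unusedSectionVars false

universe u

noncomputable section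

open CategoryTheory CategoryTheory.Limits MonoidalCategory CartesianMonoidalCategory AlgebraicGeometry Topology
open TopologicalSpace
open scoped MonObj TensorProduct

namespace OneOrbitLib

/-- An element of an extension of a perfect field on which all embeddings agree lies in the field. -/
theorem mem_range_of_embeddings {K L : Type u} [Field K] [Field L] [PerfectField K] (θ : K →+* L) (c : L)
    (h : ∀ (Ω : Type u) [Field Ω] [IsAlgClosed Ω] (e₁ e₂ : L →+* Ω), e₁.comp θ = e₂.comp θ → e₁ c = e₂ c) :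
    c ∈ Set.range θ := by
  letI : Algebra K L := θ.toAlgebra
  haveI := Groth.Agent.HopfFF.isReduced_tensor_fields K L L
  by_cases hd : c ⊗ₜ[K] (1 : L) - (1 : L) ⊗ₜ[K] c = 0
  · obtain ⟨π, hπ⟩ := LinearMap.exists_leftInverse_of_injective (Algebra.linearMap K L)
      (LinearMap.ker_eq_bot.2 θ.injective)
    have hπ1 : π 1 = 1 := by simpa using LinearMap.congr_fun hπ 1
    have h' := congrArg ((TensorProduct.rid K L).toLinearMap ∘ₗ π.lTensor L) (sub_eq_zero.1 hd)
    simp only [LinearMap.comp_apply, LinearMap.lTensor_tmul, LinearEquiv.coe_coe, TensorProduct.rid_tmul, hπ1,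
      one_smul] at h'
    exact ⟨π c, ((h'.trans (Algebra.smul_def _ _)).trans (mul_one _)).symm⟩
  · exfalso
    have hn : ¬ IsNilpotent (c ⊗ₜ[K] (1 : L) - (1 : L) ⊗ₜ[K] c) := fun hn => hd hn.eq_zero
    rw [nilpotent_iff_mem_prime] at hn
    push Not at hn
    obtain ⟨Q, hQ, hcQ⟩ := hn
    let Ω := AlgebraicClosure (FractionRing ((L ⊗[K] L) ⧸ Q))
    let q : L ⊗[K] L →+* Ω := (algebraMap (FractionRing ((L ⊗[K] L) ⧸ Q)) Ω).comp
      ((algebraMap ((L ⊗[K] L) ⧸ Q) (FractionRing ((L ⊗[K] L) ⧸ Q))).comp (Ideal.Quotient.mk Q))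
    refine hcQ (Ideal.Quotient.eq_zero_iff_mem.1 ?_)
    have hq : q (c ⊗ₜ[K] (1 : L) - (1 : L) ⊗ₜ[K] c) = 0 := by
      rw [map_sub, sub_eq_zero]
      refine h Ω (q.comp Algebra.TensorProduct.includeLeftRingHom)
        (q.comp (Algebra.TensorProduct.includeRight (R := K) (A := L) (B := L)).toRingHom) ?_
      ext r
      show q (θ r ⊗ₜ[K] 1) = q (1 ⊗ₜ[K] θ r)
      congr 1
      rw [show θ r = r • (1 : L) from by rw [Algebra.smul_def, mul_one]; rfl, TensorProduct.smul_tmul]
    simp only [q, RingHom.comp_apply, map_eq_zero] at hq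
    exact (map_eq_zero_iff _ (IsFractionRing.injective _ _)).1 hq

/-- The value of a section at a point given by a map out of the stalk. -/
theorem appLE_specMap_fromSpecStalk {X : Scheme.{u}} (x : X) {R : CommRingCat.{u}} (e : X.presheaf.stalk x ⟶ R)
    {W : X.Opens} (hW : x ∈ W) (hle : (⊤ : (Spec R).Opens) ≤ (Spec.map e ≫ X.fromSpecStalk x) ⁻¹ᵁ W) :
    (Spec.map e ≫ X.fromSpecStalk x).appLE W ⊤ hle = X.presheaf.germ W x hW ≫ e ≫ (Scheme.ΓSpecIso R).inv := by
  rw [Scheme.Hom.appLE, Scheme.Hom.comp_app, Scheme.fromSpecStalk_app hW]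
  simp only [Category.assoc]
  rw [Scheme.Hom.naturality_assoc, ← Functor.map_comp, ← Scheme.ΓSpecIso_inv_naturality_assoc]
  congr 2

variable {S : Scheme.{u}} {G X Y : Over S} [GrpObj G] {a : AlgGrp.Action G X} {φ : X ⟶ Y}
  [IsIntegral X.left] [IsIntegral Y.left] [IsDominant φ.left]

theorem genericPoint_map : φ.left (genericPoint X.left) = genericPoint Y.left :=
  ((genericPoint_spec X.left).image φ.left.continuous).eq (by
    rw [Set.image_univ, φ.left.denseRange.closure_eq]; exact genericPoint_spec Y.left)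

variable (φ) in
/-- The map of function fields. -/
def toFF : Y.left.functionField ⟶ X.left.functionField :=
  Y.left.presheaf.stalkSpecializes (specializes_of_eq genericPoint_map) ≫ φ.left.stalkMap (genericPoint X.left)

theorem germ_toFF (U : Y.left.Opens) (hη : genericPoint Y.left ∈ U) (hζ : genericPoint X.left ∈ φ.left ⁻¹ᵁ U)
    (s : Γ(Y.left, U)) :
    toFF φ (Y.left.presheaf.germ U _ hη s) = X.left.presheaf.germ _ _ hζ (φ.left.app U s) := by
  show φ.left.stalkMap (genericPoint X.left) (Y.left.presheaf.stalkSpecializes _ (Y.left.presheaf.germ U _ hη s)) = _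
  erw [TopCat.Presheaf.germ_stalkSpecializes_apply]
  exact Scheme.Hom.germ_stalkMap_apply φ.left U (genericPoint X.left) hζ s

theorem specMap_toFF : Spec.map (toFF φ) ≫ Y.left.fromSpecStalk (genericPoint Y.left) =
    X.left.fromSpecStalk (genericPoint X.left) ≫ φ.left := by
  rw [toFF, Spec.map_comp, Category.assoc, Scheme.SpecMap_stalkSpecializes_fromSpecStalk,
    Scheme.SpecMap_stalkMap_fromSpecStalk]

variable [CharZero Y.left.functionField]

/-- Invariant sections are rational functions of the base. -/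
theorem exists_toFF_eq (hii : OneOrbit a φ) {U : Y.left.Opens}
    {f : Γ(X.left, φ.left ⁻¹ᵁ U)} (hf : GIT.IsInvSection a φ U f) (hζ : genericPoint X.left ∈ φ.left ⁻¹ᵁ U) :
    ∃ g, toFF φ g = X.left.presheaf.germ _ _ hζ f := by
  haveI : PerfectField Y.left.functionField := inferInstance
  refine mem_range_of_embeddings (toFF φ).hom _ fun Ω _ _ e₁ e₂ he => ?_
  let p : (X.left.functionField →+* Ω) → (Spec (CommRingCat.of Ω) ⟶ X.left) :=
    fun e => Spec.map (CommRingCat.ofHom e) ≫ X.left.fromSpecStalk (genericPoint X.left)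
  have hpφ : p e₁ ≫ φ.left = p e₂ ≫ φ.left := by
    simp only [p, Category.assoc, ← specMap_toFF]
    rw [← Spec.map_comp_assoc, ← Spec.map_comp_assoc]
    congr 2
    exact CommRingCat.hom_ext he
  let T : Over S := Over.mk (p e₁ ≫ X.hom)
  let x₁ : T ⟶ X := Over.homMk (p e₁) rfl
  let x₂ : T ⟶ X := Over.homMk (p e₂) (by
    show p e₂ ≫ X.hom = p e₁ ≫ X.hom
    rw [← Over.w φ, reassoc_of% hpφ])
  obtain ⟨g, hg⟩ := hii Ω T (Iso.refl _) x₁ x₂ (Over.OverMorphism.ext hpφ)
  let W := φ.left ⁻¹ᵁ U
  have hle : ∀ e, (⊤ : (Spec (CommRingCat.of Ω)).Opens) ≤ p e ⁻¹ᵁ W := fun e w _ => by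
    have h1 : p e w ⤳ genericPoint X.left := by
      have : p e w ∈ Set.range (X.left.fromSpecStalk (genericPoint X.left)) :=
        ⟨(Spec.map (CommRingCat.ofHom e)) w, rfl⟩
      rwa [Scheme.range_fromSpecStalk] at this
    exact h1.mem_open W.isOpen hζ
  have hm1 : (lift g x₂).left ≫ a.act.left = p e₁ := by rw [← Over.comp_left, hg]; rfl
  have hm2 : (lift g x₂).left ≫ (snd G X).left = p e₂ := by rw [← Over.comp_left, lift_snd]; rfl
  have hV : (⊤ : T.left.Opens) ≤ (lift g x₂).left ⁻¹ᵁ (a.act.left ⁻¹ᵁ W ⊓ (snd G X).left ⁻¹ᵁ W) := fun w _ => by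
    refine ⟨?_, ?_⟩
    · show ((lift g x₂).left ≫ a.act.left) w ∈ W
      rw [hm1]; exact hle e₁ trivial
    · show ((lift g x₂).left ≫ (snd G X).left) w ∈ W
      rw [hm2]; exact hle e₂ trivial
  have key := congrArg ((lift g x₂).left.appLE _ _ hV) hf
  rw [← ConcreteCategory.comp_apply, ← ConcreteCategory.comp_apply, Scheme.Hom.appLE_comp_appLE,
    Scheme.Hom.appLE_comp_appLE] at key
  replace key : (p e₁).appLE W ⊤ (hle e₁) f = (p e₂).appLE W ⊤ (hle e₂) f :=
    ((congrArg (fun m => m f) (GITQuotLib.appLE_congr_hom hm1 _ (hle e₁))).symm.trans key).trans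
      (congrArg (fun m => m f) (GITQuotLib.appLE_congr_hom hm2 _ (hle e₂)))
  replace key := ((congrArg (fun m => m f)
      (appLE_specMap_fromSpecStalk _ (CommRingCat.ofHom e₁) (W := W) hζ (hle e₁))).symm.trans key).trans
    (congrArg (fun m => m f) (appLE_specMap_fromSpecStalk _ (CommRingCat.ofHom e₂) (W := W) hζ (hle e₂)))
  simp only [ConcreteCategory.comp_apply] at key
  exact (ConcreteCategory.bijective_of_isIso (Scheme.ΓSpecIso (CommRingCat.of Ω)).inv).1 key

omit [CharZero Y.left.functionField] in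
/-- A rational function of the normal base with regular pull back is regular. -/
theorem exists_germ_eq (hsurj : Function.Surjective φ.left.base) [IsLocallyNoetherian Y.left]
    {V : Y.left.Opens} (hV : IsAffineOpen V) [IsIntegrallyClosed Γ(Y.left, V)]
    (hη : genericPoint Y.left ∈ V) (hζ : genericPoint X.left ∈ φ.left ⁻¹ᵁ V) (f : Γ(X.left, φ.left ⁻¹ᵁ V))
    (g : Y.left.functionField) (hg : toFF φ g = X.left.presheaf.germ _ _ hζ f) :
    ∃ s : Γ(Y.left, V), Y.left.presheaf.germ V _ hη s = g := by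
  haveI : Nonempty V := ⟨⟨_, hη⟩⟩
  haveI : Nonempty (φ.left ⁻¹ᵁ V) := ⟨⟨_, hζ⟩⟩
  haveI : IsNoetherianRing Γ(Y.left, V) := IsLocallyNoetherian.component_noetherian ⟨V, hV⟩
  haveI := functionField_isFractionRing_of_isAffineOpen Y.left V hV
  obtain ⟨⟨c, b, hb⟩, hcb⟩ := IsLocalization.surj (nonZeroDivisors Γ(Y.left, V)) g
  let F := φ.left.app V
  have hfb : f * F b = F c := by
    apply germ_injective_of_isIntegral X.left (genericPoint X.left) hζ
    rw [map_mul, ← germ_toFF V hη hζ, ← germ_toFF V hη hζ, ← hg, ← map_mul]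
    exact congrArg _ hcb
  have hFb : F b ≠ 0 := by
    intro h0
    have h1 := germ_toFF (φ := φ) V hη hζ b
    rw [show φ.left.app V b = 0 from h0, map_zero, map_eq_zero,
      map_eq_zero_iff _ (germ_injective_of_isIntegral Y.left (genericPoint Y.left) hη)] at h1
    exact nonZeroDivisors.ne_zero hb h1
  suffices hdvd : b ∣ c by
    obtain ⟨s, rfl⟩ := hdvd
    refine ⟨s, (IsLocalization.map_units Y.left.functionField (⟨b, hb⟩ : nonZeroDivisors _)).mul_left_injective ?_⟩
    show Y.left.presheaf.germ V _ hη s * _ = g * _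
    rw [hcb]
    exact ((mul_comm _ _).trans (map_mul (algebraMap Γ(Y.left, V) Y.left.functionField) b s).symm)
  refine NormalLib.dvd_of_forall_associatedPrimes fun P hP => ?_
  haveI := hP.isPrime
  by_contra hne
  push Not at hne
  have hb0 : b ≠ 0 := nonZeroDivisors.ne_zero hb
  let R := Localization.AtPrime P
  haveI : IsDomain R := IsLocalization.isDomain_localization P.primeCompl_le_nonZeroDivisors
  haveI : IsIntegrallyClosed R := isIntegrallyClosed_of_isLocalization R P.primeCompl P.primeCompl_le_nonZeroDivisors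
  haveI : IsNoetherianRing R := IsLocalization.isNoetherianRing P.primeCompl R inferInstance
  have hht := NormalLib.height_eq_one_of_mem_associatedPrimes hb0 hP
  haveI : Ring.KrullDimLE 1 R := by
    rw [Ring.krullDimLE_iff, IsLocalization.AtPrime.ringKrullDim_eq_height P R, hht]
    rfl
  haveI : Ring.DimensionLEOne R :=
    ⟨fun {p} hp hp' => Ring.krullDimLE_one_iff_of_noZeroDivisors.1 inferInstance p hp hp'⟩
  haveI : IsDedekindDomain R := { }
  haveI : ValuationRing R := by
    by_cases hF : IsField R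
    · letI := hF.toField; infer_instance
    · haveI : IsDiscreteValuationRing R := ((IsDiscreteValuationRing.TFAE R hF).out 0 2 :
        IsDiscreteValuationRing R ↔ IsDedekindDomain R).2 ‹_›
      infer_instance
  rcases ValuationRing.dvd_total (algebraMap _ R b) (algebraMap _ R c) with h | h
  · obtain ⟨z, hz⟩ := h
    obtain ⟨w, t, rfl⟩ := IsLocalization.exists_mk'_eq P.primeCompl z
    refine hne t t.2 ⟨w, ?_⟩
    apply IsLocalization.injective R P.primeCompl_le_nonZeroDivisors
    rw [map_mul, map_mul, hz, mul_comm (algebraMap _ R (t : Γ(Y.left, V))), mul_assoc,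
      IsLocalization.mk'_spec]
  · obtain ⟨z, hz⟩ := h
    obtain ⟨m, t, rfl⟩ := IsLocalization.exists_mk'_eq P.primeCompl z
    have hmt : (t : Γ(Y.left, V)) * b = c * m := by
      apply IsLocalization.injective R P.primeCompl_le_nonZeroDivisors
      rw [map_mul, map_mul, hz, mul_comm (algebraMap _ R (t : Γ(Y.left, V))), mul_assoc,
        IsLocalization.mk'_spec]
    have hm : m ∈ P := by
      by_contra hm
      exact hne m hm ⟨t, by rw [mul_comm b, hmt, mul_comm]⟩
    have hFt : F t = f * F m := by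
      apply mul_right_cancel₀ hFb
      rw [mul_right_comm, hfb, ← map_mul, ← map_mul, hmt]
    let y : Y.left := hV.fromSpec ⟨P, inferInstance⟩
    obtain ⟨x, hx⟩ := hsurj y
    have hyt : y ∈ Y.left.basicOpen (t : Γ(Y.left, V)) := by
      show (⟨P, inferInstance⟩ : PrimeSpectrum Γ(Y.left, V)) ∈ hV.fromSpec ⁻¹ᵁ Y.left.basicOpen _
      rw [hV.fromSpec_preimage_basicOpen]
      exact t.2
    have hym : y ∉ Y.left.basicOpen m := by
      show ¬ (⟨P, inferInstance⟩ : PrimeSpectrum Γ(Y.left, V)) ∈ hV.fromSpec ⁻¹ᵁ Y.left.basicOpen _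
      rw [hV.fromSpec_preimage_basicOpen]
      exact not_not.2 hm
    have hxt : x ∈ X.left.basicOpen (F t) := by
      rw [← Scheme.preimage_basicOpen, ← SetLike.mem_coe, Scheme.Hom.coe_preimage, Set.mem_preimage]
      exact hx.symm ▸ hyt
    rw [hFt, Scheme.basicOpen_mul] at hxt
    have := hxt.2
    rw [← Scheme.preimage_basicOpen] at this
    exact hym (hx ▸ this)

/-- Invariant sections come from the base. -/
theorem range_app_eq (hi : GIT.IsInvariant a φ) (hii : OneOrbit a φ) (hsurj : Function.Surjective φ.left.base)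
    [IsLocallyNoetherian Y.left] (hY : ∀ U : Y.left.affineOpens, IsIntegrallyClosed Γ(Y.left, U))
    (U : Y.left.Opens) :
    Function.Injective (φ.left.app U) ∧ Set.range (φ.left.app U) = {f | GIT.IsInvSection a φ U f} := by
  rcases isEmpty_or_nonempty U with hU | ⟨⟨y₀, hy₀⟩⟩
  · have hUb : U = ⊥ := Opens.ext (Set.eq_empty_of_forall_notMem fun y hy => hU.elim ⟨y, hy⟩)
    subst hUb
    haveI : Subsingleton Γ(Y.left, (⊥ : Y.left.Opens)) := inferInstance
    haveI : Subsingleton Γ(X.left, φ.left ⁻¹ᵁ (⊥ : Y.left.Opens)) := inferInstanceAs (Subsingleton Γ(X.left, ⊥))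
    refine ⟨Function.injective_of_subsingleton _, Set.ext fun f => ⟨fun _ => ?_, fun _ => ⟨0, Subsingleton.elim _ _⟩⟩⟩
    show GIT.IsInvSection a φ ⊥ f
    rw [Subsingleton.elim f 0, GIT.IsInvSection, map_zero, map_zero]
  have hηU : genericPoint Y.left ∈ U := (genericPoint_specializes y₀).mem_open U.isOpen hy₀
  have hζU : genericPoint X.left ∈ φ.left ⁻¹ᵁ U := by
    show φ.left _ ∈ U
    rw [genericPoint_map]; exact hηU
  refine ⟨fun s s' h => germ_injective_of_isIntegral Y.left (genericPoint Y.left) hηU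
    ((toFF φ).hom.injective ?_), Set.Subset.antisymm ?_ ?_⟩
  · show toFF φ _ = toFF φ _
    rw [germ_toFF U hηU hζU, germ_toFF U hηU hζU, h]
  · rintro _ ⟨s, rfl⟩
    show GIT.IsInvSection a φ U _
    rw [GIT.IsInvSection, ← ConcreteCategory.comp_apply, ← ConcreteCategory.comp_apply, Scheme.Hom.app_eq_appLE,
      Scheme.Hom.appLE_comp_appLE, Scheme.Hom.appLE_comp_appLE, GITQuotLib.appLE_congr_hom hi.left]
  · intro f hf
    obtain ⟨g, hg⟩ := exists_toFF_eq hii hf hζU
    have hloc : ∀ y : U, ∃ (V : Y.left.Opens) (_ : (y : Y.left) ∈ V) (_ : V ≤ U) (hη : genericPoint Y.left ∈ V)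
        (s : Γ(Y.left, V)), Y.left.presheaf.germ V _ hη s = g := by
      rintro ⟨y, hy⟩
      obtain ⟨V, hV, hyV, hVU⟩ := exists_isAffineOpen_mem_and_subset (U := U) hy
      haveI : IsIntegrallyClosed Γ(Y.left, V) := hY ⟨V, hV⟩
      have hη : genericPoint Y.left ∈ V := (genericPoint_specializes y).mem_open V.isOpen hyV
      have hζ : genericPoint X.left ∈ φ.left ⁻¹ᵁ V := by
        show φ.left _ ∈ V
        rw [genericPoint_map]; exact hη
      obtain ⟨s, hs⟩ := exists_germ_eq hsurj hV hη hζ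
        (X.left.presheaf.map (homOfLE (φ.left.preimage_mono hVU)).op f) g (by
          rw [hg]; exact (TopCat.Presheaf.germ_res_apply _ _ _ _ _).symm)
      exact ⟨V, hyV, hVU, hη, s, hs⟩
    choose V hyV hVU hη s hs using hloc
    have hcompat : TopCat.Presheaf.IsCompatible Y.left.presheaf V s := by
      intro i j
      apply germ_injective_of_isIntegral Y.left (genericPoint Y.left) (show genericPoint Y.left ∈ V i ⊓ V j from ⟨hη i, hη j⟩)
      rw [TopCat.Presheaf.germ_res_apply, TopCat.Presheaf.germ_res_apply, hs, hs]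
    obtain ⟨σ, hσ, -⟩ := Y.left.sheaf.existsUnique_gluing' V U (fun i => homOfLE (hVU i))
      (fun y hy => Opens.mem_iSup.2 ⟨⟨y, hy⟩, hyV ⟨y, hy⟩⟩) s hcompat
    refine ⟨σ, germ_injective_of_isIntegral X.left (genericPoint X.left) hζU ?_⟩
    rw [← germ_toFF U hηU hζU, ← hg]
    congr 1
    rw [← hs ⟨y₀, hy₀⟩, ← hσ ⟨y₀, hy₀⟩]
    exact (TopCat.Presheaf.germ_res_apply _ _ _ _ _).symm

end OneOrbitLib
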